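import Mathlib.FieldTheory.PurelyInseparable.Basic
import Mathlib.FieldTheory.IsAlgClosed.AlgebraicClosure
import Mathlib.RingTheory.LocalRing.ResidueField.Ideal
import Mathlib.RingTheory.IntegralClosure.IntegralRestrict

/-! Residue fields of a finite subalgebra with purely inseparable extensions. -/

set_option autoImplicit false
universe u

namespace Groth.Agent.IntegralSplit

open Ideal (ResidueField)

/-- A ring map of fields is purely inseparable. -/
def PIhom {k K : Type u} [Field k] [Field K] (φ : k →+* K) : Prop :=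
  letI := φ.toAlgebra
  IsPurelyInseparable k K

theorem PIhom.comp {k K L : Type u} [Field k] [Field K] [Field L] {φ : k →+* K} {ψ : K →+* L}
    (h₁ : PIhom φ) (h₂ : PIhom ψ) : PIhom (ψ.comp φ) := by
  letI := φ.toAlgebra
  letI := ψ.toAlgebra
  letI : Algebra k L := (ψ.comp φ).toAlgebra
  haveI : IsScalarTower k K L := IsScalarTower.of_algebraMap_eq' rfl
  haveI : IsPurelyInseparable k K := h₁
  haveI : IsPurelyInseparable K L := h₂
  exact IsPurelyInseparable.trans k K L

theorem PIhom.hom_ext {k K : Type u} [Field k] [Field K] {φ : k →+* K} (h : PIhom φ) {L : Type u}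
    [CommRing L] [IsReduced L] {f g : K →+* L} (e : f.comp φ = g.comp φ) : f = g := by
  letI := φ.toAlgebra
  haveI : IsPurelyInseparable k K := h
  exact IsPurelyInseparable.injective_comp_algebraMap k K L e

theorem PIhom.of_hom_ext {k K : Type u} [Field k] [Field K] (φ : k →+* K)
    (halg : ∀ x : K, letI := φ.toAlgebra; IsAlgebraic k x)
    (h : ∀ (L : Type u) [Field L] (f g : K →+* L), f.comp φ = g.comp φ → f = g) : PIhom φ := by
  letI := φ.toAlgebra
  haveI : Algebra.IsAlgebraic k K := ⟨halg⟩
  haveI : Nonempty (K →+* AlgebraicClosure K) := ⟨algebraMap K _⟩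
  exact IsPurelyInseparable.of_injective_comp_algebraMap k K (AlgebraicClosure K) fun f g e => h _ f g e

variable {R S : Type u} [CommRing R] [CommRing S] [Algebra R S]

/-- Residue extensions of integral maps are algebraic. -/
theorem isAlgebraic_map {T : Type u} [CommRing T] (μ : R →+* T) (hμ : μ.IsIntegral) (q : Ideal T)
    [q.IsPrime] (p : Ideal R) [p.IsPrime] (hq : p = q.comap μ) (x : q.ResidueField) :
    letI := (ResidueField.map p q μ hq).toAlgebra
    IsAlgebraic p.ResidueField x := by
  letI := (ResidueField.map p q μ hq).toAlgebra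
  letI : Algebra R T := μ.toAlgebra
  haveI : IsScalarTower R p.ResidueField q.ResidueField :=
    IsScalarTower.of_algebraMap_eq fun r => ((Ideal.ResidueField.map_algebraMap p q μ hq r).trans
      (IsScalarTower.algebraMap_apply R T q.ResidueField r).symm).symm
  have hint : ∀ y : T, IsIntegral p.ResidueField (algebraMap T q.ResidueField y) := fun y => by
    have h1 : IsIntegral R (IsScalarTower.toAlgHom R T q.ResidueField y) :=
      IsIntegral.map (IsScalarTower.toAlgHom R T q.ResidueField) (show IsIntegral R y from hμ y)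
    exact h1.tower_top
  obtain ⟨a, b, hb, rfl⟩ := IsFractionRing.div_surjective (A := T ⧸ q) x
  obtain ⟨a, rfl⟩ := Ideal.Quotient.mk_surjective a
  obtain ⟨b, rfl⟩ := Ideal.Quotient.mk_surjective b
  rw [Ideal.algebraMap_quotient_residueField_mk, Ideal.algebraMap_quotient_residueField_mk,
    div_eq_mul_inv]
  exact (hint a).isAlgebraic.mul (hint b).isAlgebraic.inv

theorem exists_separating [Algebra.IsIntegral R S] (p : Ideal R) [p.IsPrime]
    (hfin : {q : PrimeSpectrum S | q.asIdeal.comap (algebraMap R S) = p}.Finite)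
    (hsep : ∀ (q : PrimeSpectrum S) (hq : q.asIdeal.comap (algebraMap R S) = p),
      letI := (ResidueField.map p q.asIdeal (algebraMap R S) hq.symm).toAlgebra
      Module.Finite p.ResidueField (separableClosure p.ResidueField q.asIdeal.ResidueField)) :
    ∃ S₀ : Subalgebra R S, Module.Finite R S₀ ∧
      (∀ q q' : PrimeSpectrum S, q.asIdeal.comap (algebraMap R S) = p →
        q'.asIdeal.comap (algebraMap R S) = p →
        q.asIdeal.comap S₀.val.toRingHom = q'.asIdeal.comap S₀.val.toRingHom → q = q') ∧
      ∀ (q : PrimeSpectrum S), q.asIdeal.comap (algebraMap R S) = p →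
        PIhom (ResidueField.map (q.asIdeal.comap S₀.val.toRingHom) q.asIdeal S₀.val.toRingHom rfl) := by
  classical
  let Q := {q : PrimeSpectrum S // q.asIdeal.comap (algebraMap R S) = p}
  haveI : Finite Q := hfin.to_subtype
  have hex : ∀ q : Q, ∃ F : Finset S, ∀ (z : q.1.asIdeal.ResidueField),
      (letI := (ResidueField.map p q.1.asIdeal (algebraMap R S) q.2.symm).toAlgebra
       IsSeparable p.ResidueField z) →
      ∀ (A : Subfield q.1.asIdeal.ResidueField),
        (∀ r : R, algebraMap S _ (algebraMap R S r) ∈ A) →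
        (∀ s ∈ F, algebraMap S q.1.asIdeal.ResidueField s ∈ A) → z ∈ A := by
    intro q
    letI := (ResidueField.map p q.1.asIdeal (algebraMap R S) q.2.symm).toAlgebra
    haveI := hsep q.1 q.2
    let b := Module.finBasis p.ResidueField (separableClosure p.ResidueField q.1.asIdeal.ResidueField)
    have hb : ∀ i, ∃ a c : S, (b i : q.1.asIdeal.ResidueField) =
        algebraMap S _ a / algebraMap S _ c := fun i => by
      obtain ⟨a, c, -, h⟩ := IsFractionRing.div_surjective (A := S ⧸ q.1.asIdeal)
        (b i : q.1.asIdeal.ResidueField)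
      obtain ⟨a, rfl⟩ := Ideal.Quotient.mk_surjective a
      obtain ⟨c, rfl⟩ := Ideal.Quotient.mk_surjective c
      exact ⟨a, c, h.symm.trans (by
        rw [Ideal.algebraMap_quotient_residueField_mk, Ideal.algebraMap_quotient_residueField_mk])⟩
    choose a c hac using hb
    refine ⟨Finset.univ.image a ∪ Finset.univ.image c, fun z hz A hR hF => ?_⟩
    have hp : ∀ y : p.ResidueField, algebraMap p.ResidueField q.1.asIdeal.ResidueField y ∈ A := by
      intro y
      obtain ⟨x, d, -, rfl⟩ := IsFractionRing.div_surjective (A := R ⧸ p) y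
      obtain ⟨x, rfl⟩ := Ideal.Quotient.mk_surjective x
      obtain ⟨d, rfl⟩ := Ideal.Quotient.mk_surjective d
      rw [map_div₀, Ideal.algebraMap_quotient_residueField_mk, Ideal.algebraMap_quotient_residueField_mk]
      refine div_mem ?_ ?_
      · have := Ideal.ResidueField.map_algebraMap p q.1.asIdeal (algebraMap R S) q.2.symm x
        exact this.symm ▸ hR x
      · have := Ideal.ResidueField.map_algebraMap p q.1.asIdeal (algebraMap R S) q.2.symm d
        exact this.symm ▸ hR d
    have hz' := b.sum_repr ⟨z, mem_separableClosure_iff.mpr hz⟩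
    rw [← show ((⟨z, mem_separableClosure_iff.mpr hz⟩ : separableClosure p.ResidueField _) :
      q.1.asIdeal.ResidueField) = z from rfl, ← hz']
    push_cast
    refine sum_mem fun i _ => ?_
    rw [Algebra.smul_def, hac]
    exact mul_mem (hp _) (div_mem (hF _ (by simp)) (hF _ (by simp)))
  choose F hF using hex
  have hd : ∀ i : Q × Q, ∃ s : S, i.1 ≠ i.2 → ¬(s ∈ i.1.1.asIdeal ↔ s ∈ i.2.1.asIdeal) := by
    intro i
    by_cases h : i.1 = i.2
    · exact ⟨0, fun h' => absurd h h'⟩
    · by_contra hc
      push_neg at hc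
      exact h (Subtype.ext (PrimeSpectrum.ext (Ideal.ext fun s => (hc s).2)))
  choose d hd using hd
  let G : Set S := (⋃ q, (F q : Set S)) ∪ Set.range d
  have hG : G.Finite := (Set.finite_iUnion fun q => (F q).finite_toSet).union (Set.finite_range d)
  let S₀ := Algebra.adjoin R G
  have hmem : ∀ s ∈ G, s ∈ S₀ := fun s hs => Algebra.subset_adjoin hs
  refine ⟨S₀, Algebra.finite_adjoin_of_finite_of_isIntegral hG fun x _ => Algebra.IsIntegral.isIntegral x,
    fun q q' hq hq' h => ?_, fun q hq => ?_⟩
  · by_contra hne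
    refine hd (⟨q, hq⟩, ⟨q', hq'⟩) (fun e => hne (congrArg Subtype.val e)) ?_
    exact Ideal.ext_iff.mp h ⟨d _, hmem _ (Or.inr ⟨_, rfl⟩)⟩
  · let ν := ResidueField.map (q.asIdeal.comap S₀.val.toRingHom) q.asIdeal S₀.val.toRingHom rfl
    letI : Algebra p.ResidueField q.asIdeal.ResidueField :=
      (ResidueField.map p q.asIdeal (algebraMap R S) hq.symm).toAlgebra
    haveI : Algebra.IsAlgebraic p.ResidueField q.asIdeal.ResidueField :=
      ⟨isAlgebraic_map (algebraMap R S) (fun x => Algebra.IsIntegral.isIntegral x) q.asIdeal p hq.symm⟩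
    letI := ν.toAlgebra
    show IsPurelyInseparable (q.asIdeal.comap S₀.val.toRingHom).ResidueField q.asIdeal.ResidueField
    obtain ⟨c, hc⟩ := ExpChar.exists p.ResidueField
    haveI := expChar_of_injective_algebraMap
      (algebraMap p.ResidueField q.asIdeal.ResidueField).injective c
    haveI : ExpChar (q.asIdeal.comap S₀.val.toRingHom).ResidueField c :=
      (RingHom.expChar_iff ν ν.injective c).mpr inferInstance
    refine (isPurelyInseparable_iff_pow_mem _ c).mpr fun x => ?_
    obtain ⟨n, y, hy⟩ := IsPurelyInseparable.pow_mem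
      (separableClosure p.ResidueField q.asIdeal.ResidueField) c x
    have hS : ∀ s ∈ S₀, algebraMap S q.asIdeal.ResidueField s ∈ ν.fieldRange := fun s hs =>
      ⟨algebraMap S₀ _ ⟨s, hs⟩, Ideal.ResidueField.map_algebraMap _ _ _ rfl _⟩
    refine ⟨n, ?_⟩
    have := hF ⟨q, hq⟩ y.1 (mem_separableClosure_iff.mp y.2) ν.fieldRange
      (fun r => hS _ (S₀.algebraMap_mem r))
      (fun s hs => hS s (hmem s (Or.inl (Set.mem_iUnion.mpr ⟨⟨q, hq⟩, hs⟩))))
    rw [← show (y : q.asIdeal.ResidueField) = x ^ c ^ n from hy]
    exact this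

end Groth.Agent.IntegralSplit
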