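import Groth.Agent.QFSplitGen.Basic
import Groth.Agent.MorLib.WeightFlat
import Groth.Agent.IntegralSplit.Field
import Mathlib.RingTheory.Idempotents

/-! Étale base change splits an integral algebra at a prime. -/

set_option autoImplicit false
universe u

namespace Groth.Agent.IntegralSplit

open AlgebraicGeometry CategoryTheory Limits TensorProduct
open Ideal (ResidueField)
open Groth.Agent.QFSplitGen (PI range_eq)

theorem PIhom.of_bijective {k K : Type u} [Field k] [Field K] (φ : k →+* K) (h : Function.Bijective φ) :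
    PIhom φ :=
  (Groth.Agent.QFSplitGen.isPurelyInseparable_bij (RingHom.id k) φ h).mpr
    (show IsPurelyInseparable k k from inferInstance)

theorem PIhom.of_comp {k K L : Type u} [Field k] [Field K] [Field L] {φ : k →+* K} {ψ : K →+* L}
    (h : PIhom (ψ.comp φ)) : PIhom ψ := by
  letI := φ.toAlgebra
  letI := ψ.toAlgebra
  letI : Algebra k L := (ψ.comp φ).toAlgebra
  haveI : IsScalarTower k K L := IsScalarTower.of_algebraMap_eq' rfl
  haveI : IsPurelyInseparable k L := h
  exact IsPurelyInseparable.tower_top k K L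

theorem transfer {A B : Type u} [CommRing A] [CommRing B] {φ : A →+* B} {P P' : Ideal A} [P.IsPrime]
    [P'.IsPrime] {Q : Ideal B} [Q.IsPrime] {h : P = Q.comap φ} (e : P = P')
    (hb : PIhom (ResidueField.map P Q φ h)) : PIhom (ResidueField.map P' Q φ (e ▸ h)) := by
  subst e; exact hb

set_option maxHeartbeats 2000000 in
set_option backward.isDefEq.respectTransparency.types false in
/-- The finite case. -/
theorem exists_clopen_split (R T : Type u) [CommRing R] [CommRing T] [Algebra R T] [Module.Finite R T]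
    (p : Ideal R) [p.IsPrime] (hne : ∃ q : PrimeSpectrum T, q.asIdeal.comap (algebraMap R T) = p) :
    ∃ (R' : Type u) (_ : CommRing R') (_ : Algebra R R') (p' : PrimeSpectrum R'),
      Algebra.Etale R R' ∧ p'.asIdeal.comap (algebraMap R R') = p ∧
      ∃ (m : ℕ) (W : Fin m → Set (PrimeSpectrum (R' ⊗[R] T))) (t : Fin m → PrimeSpectrum (R' ⊗[R] T)),
        (∀ k, IsClopen (W k)) ∧ (∀ x, ∃! k, x ∈ W k) ∧ (∀ k, t k ∈ W k) ∧
        ∀ k, ∃ (h : (t k).asIdeal.comap (algebraMap R' (R' ⊗[R] T)) = p'.asIdeal),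
          (∀ x : PrimeSpectrum (R' ⊗[R] T), x.asIdeal.comap (algebraMap R' (R' ⊗[R] T)) = p'.asIdeal →
            x ∈ W k → x = t k) ∧
          PIhom (ResidueField.map p'.asIdeal (t k).asIdeal (algebraMap R' (R' ⊗[R] T)) h.symm) := by
  classical
  let fa : CommRingCat.of R ⟶ CommRingCat.of T := CommRingCat.ofHom (algebraMap R T)
  let f := Spec.map fa
  let s : Spec (CommRingCat.of R) := ⟨p, inferInstance⟩
  haveI : IsFinite f := by
    rw [IsFinite.SpecMap_iff, CommRingCat.hom_ofHom, RingHom.finite_algebraMap]; infer_instance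
  haveI : Finite (f ⁻¹' {s}) := (Scheme.Hom.finite_preimage_singleton f s).to_subtype
  let e₀ := (Finite.equivFin (f ⁻¹' {s})).symm
  let x : Fin (Nat.card (f ⁻¹' {s})) → Spec (CommRingCat.of T) := fun i => (e₀ i).1
  obtain ⟨U, g, u, hg, hgu, J, hJ, V, v, hcl, hdis, hprop, hcov⟩ :=
    Groth.Agent.MorLib.WT.exists_split f s x
      (Subtype.val_injective.comp e₀.injective) (fun i => (e₀ i).2) (fun i => f.quasiFiniteAt _)
  obtain ⟨U', hU', huU', -⟩ :=
    exists_isAffineOpen_mem_and_subset (x := u) (U := (⊤ : U.Opens)) trivial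
  let R' := Γ(U, U')
  let φ : CommRingCat.of R ⟶ R' := Spec.preimage (hU'.fromSpec ≫ g)
  have hφ : Spec.map φ = hU'.fromSpec ≫ g := Spec.map_preimage _
  letI : Algebra R R' := φ.hom.toAlgebra
  haveI : Algebra.Etale R R' := by
    have h' : Etale (Spec.map φ) := by rw [hφ]; infer_instance
    rw [HasRingHomProperty.Spec_iff (P := @Etale)] at h'
    exact h'
  let p' := hU'.primeIdealOf ⟨u, huU'⟩
  have hp'u : hU'.fromSpec p' = u := hU'.fromSpec_primeIdealOf _
  have hp' : p'.asIdeal.comap (algebraMap R R') = p := by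
    have h : Spec.map φ p' = s := by rw [hφ, Scheme.Hom.comp_apply, hp'u, hgu]
    exact congrArg PrimeSpectrum.asIdeal h
  let T' := CommRingCat.of (R' ⊗[R] T)
  let πa : R' ⟶ T' := CommRingCat.ofHom (algebraMap R' (R' ⊗[R] T))
  let π := Spec.map πa
  let q : Spec T' ⟶ Spec (CommRingCat.of T) :=
    Spec.map (CommRingCat.ofHom
      (Algebra.TensorProduct.includeRight.toRingHom : T →+* R' ⊗[R] T))
  have hsq : IsPullback q π f (hU'.fromSpec ≫ g) := by
    rw [← hφ]
    exact (isPullback_SpecMap_of_isPushout _ _ _ _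
      (CommRingCat.isPushout_tensorProduct R R' T)).flip
  let k := (IsPullback.of_hasPullback f g).lift q (π ≫ hU'.fromSpec) (by rw [hsq.w, Category.assoc])
  have hks : k ≫ pullback.snd f g = π ≫ hU'.fromSpec := (IsPullback.of_hasPullback f g).lift_snd ..
  have hkq : k ≫ pullback.fst f g = q := (IsPullback.of_hasPullback f g).lift_fst ..
  have hk : IsPullback k π (pullback.snd f g) hU'.fromSpec :=
    IsPullback.of_right (by rw [hkq]; exact hsq) hks (IsPullback.of_hasPullback f g)
  haveI : IsOpenImmersion k := MorphismProperty.of_isPullback hk.flip inferInstance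
  let Idx := Σ i, J i
  haveI : ∀ i, Finite (J i) := hJ
  have hv : ∀ a : Idx, ∃ t : Spec T', k t = v a.1 a.2 := fun a => by
    have : v a.1 a.2 ∈ Set.range k := by
      rw [range_eq hk]
      exact ⟨p', hp'u.trans (hprop a.1 a.2).2.2.1.symm⟩
    exact this
  choose t ht using hv
  have hover : ∀ y : Spec T', π y = p' ↔ pullback.snd f g (k y) = u := fun y => by
    rw [← Scheme.Hom.comp_apply, hks, Scheme.Hom.comp_apply]
    exact ⟨fun h => by rw [h]; exact hp'u,
      fun h => hU'.fromSpec.isOpenEmbedding.injective (h.trans hp'u.symm)⟩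
  let W₀ : Idx → Set (Spec T') := fun a => k ⁻¹' (V a.1 a.2)
  have hdis₀ : ∀ a b y, y ∈ W₀ a → y ∈ W₀ b → a = b := fun a b y ha hb => by
    obtain ⟨h1, h2⟩ := hdis a.1 a.2 b.1 b.2 ⟨k y, ha, hb⟩
    exact Sigma.ext h1 h2
  have hu₀ : ∀ a y, π y = p' → y ∈ W₀ a → y = t a := fun a y hy hya =>
    k.isOpenEmbedding.injective (((hprop a.1 a.2).2.2.2.1 _ hya ((hover y).mp hy)).trans (ht a).symm)
  have hall : ∀ y, π y = p' → ∃ a, y ∈ W₀ a := fun y hy => by
    have hf : pullback.fst f g (k y) ∈ f ⁻¹' {s} := by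
      rw [Set.mem_preimage, ← Scheme.Hom.comp_apply, pullback.condition, Scheme.Hom.comp_apply,
        (hover y).mp hy, hgu]
      rfl
    obtain ⟨j, hj⟩ := hcov (k y) (e₀.symm ⟨_, hf⟩) ((hover y).mp hy)
      (congrArg Subtype.val (e₀.apply_symm_apply ⟨_, hf⟩)).symm
    exact ⟨⟨_, j⟩, hj⟩
  haveI : Nonempty Idx := by
    obtain ⟨q₀, hq₀⟩ := hne
    have h0 : f q₀ = Spec.map φ p' := by
      rw [hφ, Scheme.Hom.comp_apply, hp'u, hgu]
      exact PrimeSpectrum.ext hq₀
    obtain ⟨z, -, hz⟩ := Scheme.Pullback.exists_preimage_pullback (f := f) (g := hU'.fromSpec ≫ g)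
      q₀ p' (by rw [h0, hφ])
    exact ⟨(hall (hsq.isoPullback.inv z) (by
      rw [← Scheme.Hom.comp_apply, IsPullback.isoPullback_inv_snd]; exact hz)).choose⟩
  let e := (Finite.equivFin Idx).symm
  haveI : NeZero (Nat.card Idx) := ⟨Nat.card_pos.ne'⟩
  let W : Fin (Nat.card Idx) → Set (Spec T') := fun l =>
    if l = 0 then (⋃ (j) (_ : j ≠ 0), W₀ (e j))ᶜ else W₀ (e l)
  have hW₀ : ∀ a, IsClopen (W₀ a) := fun a => (hcl a.1 a.2).preimage k.continuous
  have hmem : ∀ l y, y ∈ W₀ (e l) → y ∈ W l := fun l y hy => by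
    by_cases hl : l = 0
    · simp only [W, if_pos hl, Set.mem_compl_iff, Set.mem_iUnion, not_exists]
      exact fun j hj hyj => hj ((e.injective (hdis₀ _ _ y hyj hy)).trans hl)
    · simp only [W, if_neg hl]; exact hy
  have huniqW : ∀ y, ∃! l, y ∈ W l := fun y => by
    by_cases hy : ∃ j, j ≠ 0 ∧ y ∈ W₀ (e j)
    · obtain ⟨j, hj, hyj⟩ := hy
      refine ⟨j, hmem j y hyj, fun l hl => ?_⟩
      by_cases h0 : l = 0
      · simp only [W, if_pos h0, Set.mem_compl_iff, Set.mem_iUnion, not_exists] at hl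
        exact absurd hyj (hl j hj)
      · simp only [W, if_neg h0] at hl
        exact e.injective (hdis₀ _ _ y hl hyj)
    · refine ⟨0, ?_, fun l hl => ?_⟩
      · simp only [W, if_pos, Set.mem_compl_iff, Set.mem_iUnion, not_exists]
        exact fun j hj hyj => hy ⟨j, hj, hyj⟩
      · by_contra h0
        simp only [W, if_neg h0] at hl
        exact hy ⟨l, h0, hl⟩
  refine ⟨R', inferInstance, inferInstance, p', inferInstance, hp', Nat.card Idx, W, fun l => t (e l),
    fun l => ?_, huniqW, fun l => hmem l _ ?_, fun l => ?_⟩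
  · by_cases hl : l = 0
    · simp only [W, if_pos hl]
      exact (isClopen_iUnion_of_finite fun j => isClopen_iUnion_of_finite fun _ => hW₀ _).compl
    · simp only [W, if_neg hl]; exact hW₀ _
  · show k (t (e l)) ∈ V _ _
    rw [ht]; exact (hprop _ _).1
  have hπt : π (t (e l)) = p' := (hover _).mpr (by rw [ht]; exact (hprop _ _).2.2.1)
  refine ⟨congrArg PrimeSpectrum.asIdeal hπt, fun y hy hyl => ?_, ?_⟩
  · obtain ⟨a, ha⟩ := hall y (PrimeSpectrum.ext hy)
    obtain ⟨j, rfl⟩ := e.surjective a
    obtain rfl := (huniqW y).unique hyl (hmem j y ha)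
    exact hu₀ _ y (PrimeSpectrum.ext hy) ha
  · have h0 : PI (pullback.snd f g) (k (t (e l))) := by rw [ht]; exact (hprop _ _).2.2.2.2.1
    rw [← Groth.Agent.QFSplitGen.PI_comp_iff, hks] at h0
    have h1 : PIhom ((π ≫ hU'.fromSpec).residueFieldMap (t (e l))).hom := h0
    rw [Scheme.residueFieldMap_comp] at h1
    have h2 : PIhom (π.residueFieldMap (t (e l)) ≫
        (Scheme.Spec.residueFieldIso T' (t (e l))).hom).hom :=
      (PIhom.of_comp (φ := (hU'.fromSpec.residueFieldMap (π (t (e l)))).hom)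
        (ψ := (π.residueFieldMap (t (e l))).hom) h1).comp
        (PIhom.of_bijective _ (ConcreteCategory.bijective_of_isIso (Scheme.Spec.residueFieldIso T' (t (e l))).hom))
    rw [Groth.Agent.MorLib.WT.residueFieldMap_SpecMap] at h2
    have h3 : PIhom (ResidueField.map (PrimeSpectrum.comap πa.hom (t (e l))).asIdeal (t (e l)).asIdeal
        (algebraMap R' (R' ⊗[R] T)) rfl) :=
      PIhom.of_comp (φ := (Scheme.Spec.residueFieldIso R' (PrimeSpectrum.comap πa.hom (t (e l)))).hom.hom) h2
    exact transfer (congrArg PrimeSpectrum.asIdeal hπt) h3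

/-- For an integral map, if ring maps to fields are determined by their restriction, then the point
over `t` is unique, with purely inseparable residue extension. -/
theorem unique_point_PI {A B : Type u} [CommRing A] [CommRing B] (μ : A →+* B) (hμ : μ.IsIntegral)
    (t : PrimeSpectrum A)
    (key : ∀ (Ω : Type u) [Field Ω] (χ χ' : B →+* Ω), χ.comp μ = χ'.comp μ →
      (RingHom.ker χ).comap μ = t.asIdeal → χ = χ') :
    (∀ P P' : PrimeSpectrum B, P.asIdeal.comap μ = t.asIdeal → P'.asIdeal.comap μ = t.asIdeal → P = P') ∧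
    ∀ (P : PrimeSpectrum B) (h : t.asIdeal = P.asIdeal.comap μ),
      PIhom (ResidueField.map t.asIdeal P.asIdeal μ h) := by
  constructor
  · intro P P' hP hP'
    let k := t.asIdeal.ResidueField
    have hemb : ∀ (P : PrimeSpectrum B), P.asIdeal.comap μ = t.asIdeal →
        ∃ χ : B →+* AlgebraicClosure k, RingHom.ker χ = P.asIdeal ∧
          χ.comp μ = (algebraMap k (AlgebraicClosure k)).comp (algebraMap A k) := by
      intro P hP
      letI := (ResidueField.map t.asIdeal P.asIdeal μ hP.symm).toAlgebra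
      haveI : Algebra.IsAlgebraic k P.asIdeal.ResidueField :=
        ⟨isAlgebraic_map μ hμ P.asIdeal _ hP.symm⟩
      let σ : P.asIdeal.ResidueField →ₐ[k] AlgebraicClosure k := IsAlgClosed.lift
      refine ⟨σ.toRingHom.comp (algebraMap _ _), ?_, RingHom.ext fun x => ?_⟩
      · rw [RingHom.ker_comp_of_injective _ σ.injective, Ideal.ker_algebraMap_residueField]
      · show σ (algebraMap _ P.asIdeal.ResidueField (μ x)) = algebraMap k _ (algebraMap A k x)
        rw [← σ.commutes]
        exact congrArg σ (Ideal.ResidueField.map_algebraMap _ _ μ hP.symm x).symm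
    obtain ⟨χ, hχ, hχμ⟩ := hemb P hP
    obtain ⟨χ', hχ', hχ'μ⟩ := hemb P' hP'
    have e := key _ χ χ' (hχμ.trans hχ'μ.symm) (by rw [hχ]; exact hP)
    exact PrimeSpectrum.ext (by rw [← hχ, e, hχ'])
  · intro P h
    refine PIhom.of_hom_ext _ (fun x => isAlgebraic_map μ hμ P.asIdeal _ h x) fun L _ a b hab => ?_
    refine Ideal.ResidueField.ringHom_ext (key L _ _ (RingHom.ext fun x => ?_) ?_)
    · have := RingHom.congr_fun hab (algebraMap A _ x)
      simp only [RingHom.comp_apply, Ideal.ResidueField.map_algebraMap] at this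
      exact this
    · rw [RingHom.ker_comp_of_injective _ a.injective, Ideal.ker_algebraMap_residueField]
      exact h.symm

set_option maxHeartbeats 2000000 in
/-- An integral algebra with finitely many primes over `p`, each of finite separable degree, splits
over an étale algebra into pieces with a single, purely inseparable point over `p'`. -/
theorem exists_split {R S : Type u} [CommRing R] [CommRing S] [Algebra R S] [Algebra.IsIntegral R S]
    (p : Ideal R) [p.IsPrime] (hfin : {q : PrimeSpectrum S | q.asIdeal.comap (algebraMap R S) = p}.Finite)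
    (hsep : ∀ (q : PrimeSpectrum S) (hq : q.asIdeal.comap (algebraMap R S) = p),
      letI := (Ideal.ResidueField.map p q.asIdeal (algebraMap R S) hq.symm).toAlgebra
      Module.Finite p.ResidueField (separableClosure p.ResidueField q.asIdeal.ResidueField)) :
    ∃ (R' : Type u) (_ : CommRing R') (_ : Algebra R R') (p' : PrimeSpectrum R'),
      Algebra.Etale R R' ∧ p'.asIdeal.comap (algebraMap R R') = p ∧
      ∃ (m : ℕ) (A : Fin m → Type u) (_ : ∀ j, CommRing (A j)) (_ : ∀ j, Algebra R' (A j))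
        (_ : R' ⊗[R] S ≃ₐ[R'] (Π j, A j)),
        ∀ j, Algebra.IsIntegral R' (A j) ∧ ∃ (r : PrimeSpectrum (A j))
          (hr : r.asIdeal.comap (algebraMap R' (A j)) = p'.asIdeal),
          (∀ r' : PrimeSpectrum (A j), r'.asIdeal.comap (algebraMap R' (A j)) = p'.asIdeal → r' = r) ∧
          PIhom (Ideal.ResidueField.map p'.asIdeal r.asIdeal (algebraMap R' (A j)) hr.symm) := by
  classical
  by_cases hne : ∃ q : PrimeSpectrum S, q.asIdeal.comap (algebraMap R S) = p
  swap
  · obtain ⟨h, hh, hhp⟩ : ∃ h, algebraMap R S h = 0 ∧ h ∉ p := by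
      by_contra hc
      push_neg at hc
      obtain ⟨Q, -, hQ, hQp⟩ := Ideal.exists_ideal_over_prime_of_isIntegral (S := S) p ⊥ fun x hx =>
        hc x (by simpa using hx)
      exact hne ⟨⟨Q, hQ⟩, hQp⟩
    have hdisj : Disjoint (Submonoid.powers h : Set R) (p : Set R) :=
      (Ideal.disjoint_powers_iff_notMem h (Ideal.IsPrime.isRadical inferInstance)).mpr hhp
    haveI : Subsingleton (Localization.Away h ⊗[R] S) := by
      obtain ⟨a, ha⟩ := IsUnit.exists_right_inv (IsLocalization.Away.algebraMap_isUnit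
        (S := Localization.Away h) h)
      refine subsingleton_of_zero_eq_one ?_
      show (0 : Localization.Away h ⊗[R] S) = 1 ⊗ₜ 1
      rw [← ha, ← Algebra.smul_def, TensorProduct.smul_tmul, Algebra.smul_def, hh, zero_mul,
        TensorProduct.tmul_zero]
    haveI : IsEmpty (Fin 0) := inferInstance
    refine ⟨Localization.Away h, inferInstance, inferInstance,
      ⟨p.map (algebraMap R (Localization.Away h)),
        IsLocalization.isPrime_of_isPrime_disjoint (Submonoid.powers h) _ p inferInstance hdisj⟩,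
      Algebra.Etale.of_isLocalizationAway h,
      IsLocalization.under_map_of_isPrime_disjoint (Submonoid.powers h) _ inferInstance hdisj,
      0, fun _ => Localization.Away h, inferInstance, inferInstance, ?_, fun j => j.elim0⟩
    exact AlgEquiv.ofBijective
      ({ toFun := fun _ j => j.elim0
         map_one' := Subsingleton.elim _ _
         map_mul' := fun _ _ => Subsingleton.elim _ _
         map_zero' := Subsingleton.elim _ _
         map_add' := fun _ _ => Subsingleton.elim _ _
         commutes' := fun _ => Subsingleton.elim _ _ } :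
        Localization.Away h ⊗[R] S →ₐ[Localization.Away h] (Π _ : Fin 0, Localization.Away h))
      ⟨fun a b _ => Subsingleton.elim a b, fun y => ⟨0, Subsingleton.elim _ _⟩⟩
  obtain ⟨S₀, hfinite, hsepq, hPI⟩ := exists_separating p hfin hsep
  haveI := hfinite
  let sv : S₀ →ₐ[R] S := S₀.val
  obtain ⟨R', _, _, p', het, hp', m, W, t, hW, hpart, htW, ht⟩ := exists_clopen_split R S₀ p (by
    obtain ⟨q, hq⟩ := hne
    exact ⟨⟨q.asIdeal.comap sv.toRingHom, inferInstance⟩, by
      rw [Ideal.comap_comap, show sv.toRingHom.comp (algebraMap R S₀) = algebraMap R S from rfl, hq]⟩)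
  haveI := het
  let μ : R' ⊗[R] S₀ →ₐ[R'] R' ⊗[R] S := Algebra.TensorProduct.map (AlgHom.id R' R') sv
  have hμinj : Function.Injective μ :=
    Module.Flat.lTensor_preserves_injective_linearMap (M := R') sv.toLinearMap Subtype.val_injective
  haveI : Algebra.IsIntegral R' (R' ⊗[R] S) := Algebra.IsIntegral.tensorProduct R R' S
  have hμint : μ.toRingHom.IsIntegral := RingHom.IsIntegral.tower_top (algebraMap R' _) μ.toRingHom
    (by rw [show μ.toRingHom.comp (algebraMap R' _) = algebraMap R' (R' ⊗[R] S) from μ.comp_algebraMap]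
        exact fun x => Algebra.IsIntegral.isIntegral x)
  have key : ∀ (Ω : Type u) [Field Ω] (χ χ' : R' ⊗[R] S →+* Ω),
      χ.comp μ.toRingHom = χ'.comp μ.toRingHom →
      (RingHom.ker χ).comap (algebraMap R' (R' ⊗[R] S)) = p'.asIdeal → χ = χ' := by
    intro Ω _ χ χ' he hker
    suffices h : ∀ x : S, χ (1 ⊗ₜ x) = χ' (1 ⊗ₜ x) by
      refine RingHom.ext fun z => ?_
      induction z using TensorProduct.induction_on with
      | zero => rw [map_zero, map_zero]
      | add x y hx hy => rw [map_add, map_add, hx, hy]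
      | tmul a x =>
        have := RingHom.congr_fun he (a ⊗ₜ 1)
        rw [show a ⊗ₜ[R] x = (a ⊗ₜ 1) * (1 ⊗ₜ x) by rw [Algebra.TensorProduct.tmul_mul_tmul, mul_one, one_mul],
          map_mul, map_mul, h, show χ (a ⊗ₜ 1) = χ' (a ⊗ₜ 1) by simpa [μ] using this]
    refine fun x => RingHom.congr_fun (?_ : χ.comp
        (Algebra.TensorProduct.includeRight : S →ₐ[R] R' ⊗[R] S).toRingHom =
      χ'.comp (Algebra.TensorProduct.includeRight : S →ₐ[R] R' ⊗[R] S).toRingHom) x
    · let inc : S →+* R' ⊗[R] S :=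
        (Algebra.TensorProduct.includeRight : S →ₐ[R] R' ⊗[R] S).toRingHom
      show χ.comp inc = χ'.comp inc
      have hS₀ : ∀ x : S₀, χ (inc (sv x)) = χ' (inc (sv x)) := fun x => by
        have := RingHom.congr_fun he (1 ⊗ₜ x)
        show χ (1 ⊗ₜ sv x) = χ' (1 ⊗ₜ sv x)
        simpa [μ] using this
      let q : PrimeSpectrum S := ⟨RingHom.ker (χ.comp inc), RingHom.ker_isPrime _⟩
      let q' : PrimeSpectrum S := ⟨RingHom.ker (χ'.comp inc), RingHom.ker_isPrime _⟩
      have hqp : q.asIdeal.comap (algebraMap R S) = p := by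
        rw [← hp', ← hker]
        ext r
        show χ (inc (algebraMap R S r)) = 0 ↔ χ (algebraMap R' _ (algebraMap R R' r)) = 0
        rw [← IsScalarTower.algebraMap_apply, show inc (algebraMap R S r) =
          algebraMap R (R' ⊗[R] S) r from AlgHom.commutes _ r]
      have hq'p : q'.asIdeal.comap (algebraMap R S) = p := by
        rw [← hqp]
        ext r
        show χ' (inc (sv (algebraMap R S₀ r))) = 0 ↔ χ (inc (sv (algebraMap R S₀ r))) = 0
        rw [hS₀]
      have hqq : q = q' := hsepq q q' hqp hq'p (Ideal.ext fun x => by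
        show χ (inc (sv x)) = 0 ↔ χ' (inc (sv x)) = 0
        rw [hS₀])
      haveI : q.asIdeal.IsPrime := q.2
      let A := S ⧸ q.asIdeal
      have hk : ∀ ψ : S →+* Ω, RingHom.ker ψ = q.asIdeal → ∃ l : q.asIdeal.ResidueField →+* Ω,
          l.comp (algebraMap S _) = ψ := fun ψ hψ => by
        have hg : Function.Injective (Ideal.Quotient.lift q.asIdeal ψ fun x hx => by
            rwa [← hψ] at hx) :=
          RingHom.lift_injective_of_ker_le_ideal _ _ hψ.le
        exact ⟨IsFractionRing.lift hg, RingHom.ext fun x => by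
          rw [RingHom.comp_apply, ← Ideal.algebraMap_quotient_residueField_mk,
            IsFractionRing.lift_algebraMap]
          rfl⟩
      obtain ⟨l, hl⟩ := hk (χ.comp inc) rfl
      obtain ⟨l', hl'⟩ := hk (χ'.comp inc) (congrArg PrimeSpectrum.asIdeal hqq).symm
      have hll : l = l' := (hPI q hqp).hom_ext (Ideal.ResidueField.ringHom_ext (RingHom.ext fun x => by
        show l (Ideal.ResidueField.map _ _ _ _ (algebraMap S₀ _ x)) =
          l' (Ideal.ResidueField.map _ _ _ _ (algebraMap S₀ _ x))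
        rw [Ideal.ResidueField.map_algebraMap]
        exact ((RingHom.congr_fun hl (sv x)).trans (hS₀ x)).trans (RingHom.congr_fun hl' (sv x)).symm))
      rw [← hl, ← hl', hll]
  -- the idempotents
  have hWc : ∀ j, ∃ e f : R' ⊗[R] S, e * f = 0 ∧ e + f = 1 ∧
      PrimeSpectrum.comap μ.toRingHom ⁻¹' W j = PrimeSpectrum.basicOpen e := fun j =>
    PrimeSpectrum.isClopen_iff_mul_add.mp ((hW j).preimage (PrimeSpectrum.continuous_comap _))
  choose e f hef hadd hWe using hWc
  have hidem : ∀ j, IsIdempotentElem (e j) := fun j => by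
    show e j * e j = e j
    calc e j * e j = e j * (e j + f j) := by rw [mul_add, hef, add_zero]
      _ = e j := by rw [hadd, mul_one]
  have hmemW : ∀ (j) (r : PrimeSpectrum (R' ⊗[R] S)),
      PrimeSpectrum.comap μ.toRingHom r ∈ W j ↔ e j ∉ r.asIdeal := fun j r => Set.ext_iff.mp (hWe j) r
  have hortho : Pairwise fun i j => e i * e j = 0 := fun i j hij => by
    refine ((hidem i).mul (hidem j)).eq_zero_of_isNilpotent
      ((PrimeSpectrum.basicOpen_eq_bot_iff _).mp (eq_bot_iff.mpr fun r hr => ?_))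
    rw [PrimeSpectrum.basicOpen_mul] at hr
    exact hij ((hpart _).unique ((hmemW i r).mpr hr.1) ((hmemW j r).mpr hr.2))
  have hsum : ∑ j, e j = 1 := by
    have horth : OrthogonalIdempotents e := ⟨hidem, hortho⟩
    have h1 : IsUnit (∑ j, e j) := by
      by_contra h
      obtain ⟨M, hM, hle⟩ := exists_max_ideal_of_mem_nonunits h
      obtain ⟨j, hj, -⟩ := hpart (PrimeSpectrum.comap μ.toRingHom ⟨M, hM.isPrime⟩)
      refine (hmemW j ⟨M, hM.isPrime⟩).mp hj ?_
      have : e j * ∑ i, e i = e j := horth.mul_sum_of_mem (Finset.mem_univ j)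
      show e j ∈ M
      rw [← this]; exact M.mul_mem_left _ hle
    exact (IsIdempotentElem.iff_eq_one_of_isUnit h1).mp horth.isIdempotentElem_sum
  have hco : CompleteOrthogonalIdempotents e := ⟨⟨hidem, hortho⟩, hsum⟩
  let I := fun j => Ideal.span {1 - e j}
  refine ⟨R', inferInstance, inferInstance, p', het, hp', m, fun j => (R' ⊗[R] S) ⧸ I j,
    inferInstance, inferInstance,
    AlgEquiv.ofBijective (Pi.algHom R' _ fun j => Ideal.Quotient.mkₐ R' (I j)) hco.bijective_pi,
    fun j => ⟨inferInstance, ?_⟩⟩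
  obtain ⟨hth, htu, htPI⟩ := ht j
  -- the point
  letI : Algebra (R' ⊗[R] S₀) (R' ⊗[R] S) := μ.toRingHom.toAlgebra
  haveI : Algebra.IsIntegral (R' ⊗[R] S₀) (R' ⊗[R] S) := ⟨hμint⟩
  obtain ⟨Q, -, hQ, hQt⟩ := Ideal.exists_ideal_over_prime_of_isIntegral
    (S := R' ⊗[R] S) (t j).asIdeal ⊥ (fun x hx => by
      have : x = 0 := hμinj (by rw [map_zero]; exact hx)
      rw [this]; exact zero_mem _)
  have hQW : PrimeSpectrum.comap μ.toRingHom ⟨Q, hQ⟩ = t j := PrimeSpectrum.ext hQt
  have heQ : e j ∉ Q := (hmemW j ⟨Q, hQ⟩).mp (hQW ▸ htW j)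
  have hIQ : I j ≤ Q := by
    rw [Ideal.span_singleton_le_iff_mem]
    rcases hQ.mem_or_mem (show e j * (1 - e j) ∈ Q by
      rw [mul_sub, mul_one, (hidem j).eq, sub_self]; exact zero_mem _) with h | h
    · exact absurd h heQ
    · exact h
  let mk := Ideal.Quotient.mk (I j)
  have hmk : (algebraMap R' ((R' ⊗[R] S) ⧸ I j)) = mk.comp (algebraMap R' (R' ⊗[R] S)) := rfl
  let r : PrimeSpectrum ((R' ⊗[R] S) ⧸ I j) := ⟨Q.map mk, Ideal.map_isPrime_of_surjective
    Ideal.Quotient.mk_surjective (by rwa [Ideal.mk_ker])⟩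
  have hrQ : r.asIdeal.comap mk = Q := by
    show (Q.map mk).comap mk = Q
    rw [Ideal.comap_map_of_surjective _ Ideal.Quotient.mk_surjective, ← RingHom.ker_eq_comap_bot,
      Ideal.mk_ker, sup_eq_left.mpr hIQ]
  have hμc : μ.toRingHom.comp (algebraMap R' (R' ⊗[R] S₀)) = algebraMap R' (R' ⊗[R] S) :=
    μ.comp_algebraMap
  have hQp : Q.comap (algebraMap R' (R' ⊗[R] S)) = p'.asIdeal := by
    rw [← hμc, ← Ideal.comap_comap]
    show ((PrimeSpectrum.comap μ.toRingHom ⟨Q, hQ⟩).asIdeal).comap _ = _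
    rw [hQW, hth]
  have hr : r.asIdeal.comap (algebraMap R' _) = p'.asIdeal := by
    rw [hmk, ← Ideal.comap_comap, hrQ, hQp]
  have huni := unique_point_PI μ.toRingHom hμint (t j) fun Ω _ χ χ' he hker => key Ω χ χ' he (by
    rw [← hμc, ← Ideal.comap_comap, hker, hth])
  refine ⟨r, hr, fun r' hr' => ?_, ?_⟩
  · -- uniqueness
    let Q' := PrimeSpectrum.comap mk r'
    have hQ'p : Q'.asIdeal.comap (algebraMap R' (R' ⊗[R] S)) = p'.asIdeal := hr'
    have hQ'e : e j ∉ Q'.asIdeal := fun h => r'.2.ne_top ((Ideal.eq_top_iff_one _).mpr (by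
      have h1 : mk (1 - e j) = 0 := Ideal.Quotient.eq_zero_iff_mem.mpr (Ideal.subset_span rfl)
      rw [map_sub, map_one, sub_eq_zero] at h1
      rw [h1]; exact h))
    have hc : PrimeSpectrum.comap μ.toRingHom Q' = t j := htu _ (by
      show (Q'.asIdeal.comap μ.toRingHom).comap _ = _
      rw [Ideal.comap_comap, hμc, hQ'p]) ((hmemW j Q').mpr hQ'e)
    refine PrimeSpectrum.ext (Ideal.comap_injective_of_surjective mk Ideal.Quotient.mk_surjective ?_)
    exact congrArg PrimeSpectrum.asIdeal
      (huni.1 Q' (PrimeSpectrum.comap mk r) (congrArg PrimeSpectrum.asIdeal hc)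
        (by show (r.asIdeal.comap mk).comap _ = _; rw [hrQ]; exact hQt))
  · -- purely inseparable
    have h1 := huni.2 ⟨Q, hQ⟩ hQt.symm
    haveI : r.asIdeal.IsPrime := r.2
    have h2 : PIhom (ResidueField.map Q r.asIdeal mk hrQ.symm) := PIhom.of_bijective _
      ((RingHom.surjectiveOnStalks_of_surjective Ideal.Quotient.mk_surjective).residueFieldMap_bijective _ _ hrQ.symm)
    have h3 := (htPI.comp h1).comp h2
    convert h3 using 1
    refine Ideal.ResidueField.ringHom_ext (RingHom.ext fun x => ?_)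
    simp only [RingHom.comp_apply, Ideal.ResidueField.map_algebraMap]
    rw [show μ.toRingHom (algebraMap R' _ x) = algebraMap R' (R' ⊗[R] S) x from μ.commutes x]
    rfl

end Groth.Agent.IntegralSplit
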